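import Mathlib

/-!
# Arithmetic of the values of the Brauer character of `E₈(3)` on the `2`-elements of `Sp₆(2)` (S5919)

`u = t + 8` for the value `t`; classes `1, 2a, 2b, 2c, 2d, 4a, 4b, 4c, 4d, 4e, 8a, 8b`.
-/

set_option autoImplicit false
set_option maxRecDepth 100000

namespace Cfsg.Agent.H945.E83.Cert

def T4 (u : ℕ) : List ℕ := bif Nat.beq u 0 then [8, 16, 72] else [4, 12, 36, 140]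

def L8u : List (ℕ × ℕ × ℕ) := [(2, 140, 32), (4, 72, 0), (6, 12, 32), (6, 36, 32), (8, 8, 0), (8, 16, 0), (10, 4, 32),
  (10, 12, 32), (12, 8, 0), (14, 12, 32), (20, 72, 0), (22, 36, 32), (24, 8, 0), (34, 140, 32), (42, 4, 32),
  (52, 72, 0), (86, 36, 32)]

def T8 (u4 u2 : ℕ) : List ℕ := (L8u.filter fun p => Nat.beq p.2.1 u4 && Nat.beq p.2.2 u2).map fun p => p.1

def s0 (u1 u2 u3 u4 u5 u6 u7 u8 : ℕ) : ℕ := 256 + 3 * u1 + 12 * u2 + 11 * u3 + 13 * u4 + 4 * u5 + 8 * u6 + 8 * u7 + 4 * u8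

def s1 (u1 u2 u3 u4 u5 u6 u7 u8 u9 : ℕ) : ℕ := 256 + 3 * u1 + 36 * u2 + 11 * u3 + 13 * u4 + 24 * u5 + 52 * u6 + 80 * u7 + 24 * u8 + 12 * u9

def s2 (u1 u2 u3 u4 u6 u9 : ℕ) : ℕ := 256 + u1 + 28 * u2 + 7 * u3 + 3 * u4 + 12 * u6 + 12 * u9

def s3 (u1 u2 u3 u4 u5 u8 : ℕ) : ℕ := 256 + 3 * u1 + 12 * u2 + 15 * u3 + 17 * u4 + 8 * u5 + 8 * u8

def s4 (u1 u2 u3 u4 u5 u6 u7 u8 u11 : ℕ) : ℕ := 256 + 4 * u1 + 12 * u2 + 17 * u3 + 10 * u4 + 4 * u5 + 28 * u6 + 8 * u7 + 28 * u8 + 16 * u11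

def s5 (u1 u2 u3 u4 u5 u6 u7 u8 u9 u10 u11 : ℕ) : ℕ := 256 + 7 * u1 + 68 * u2 + 27 * u3 + 41 * u4 + 40 * u5 + 92 * u6 + 112 * u7 + 40 * u8 + 20 * u9 + 32 * u10 + 32 * u11

def gd (n s : ℕ) : Bool := Nat.beq (s % n) 0 && Nat.ble 8 (s / n)

theorem cert : ∀ u1 ∈ [0, 32], ∀ u2 ∈ [0, 32], ∀ u3 ∈ [0, 32], ∀ u4 ∈ [0, 32], ∀ u5 ∈ T4 u4, ∀ u6 ∈ T4 u3,
    ∀ u7 ∈ T4 u4, ∀ u8 ∈ T4 u4, ∀ u9 ∈ T4 u3,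
    gd 64 (s0 u1 u2 u3 u4 u5 u6 u7 u8) = true → gd 256 (s1 u1 u2 u3 u4 u5 u6 u7 u8 u9) = true →
    gd 64 (s2 u1 u2 u3 u4 u6 u9) = true → gd 64 (s3 u1 u2 u3 u4 u5 u8) = true →
    ∀ u10 ∈ T8 u9 u3, ∀ u11 ∈ T8 u6 u3,
    gd 128 (s4 u1 u2 u3 u4 u5 u6 u7 u8 u11) = true → gd 512 (s5 u1 u2 u3 u4 u5 u6 u7 u8 u9 u10 u11) = true →
    Nat.ble (s5 u1 u2 u3 u4 u5 u6 u7 u8 u9 u10 u11 / 512) (s0 u1 u2 u3 u4 u5 u6 u7 u8 / 64) = true →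
    Nat.ble (s5 u1 u2 u3 u4 u5 u6 u7 u8 u9 u10 u11 / 512) (s1 u1 u2 u3 u4 u5 u6 u7 u8 u9 / 256) = true →
    Nat.ble (s5 u1 u2 u3 u4 u5 u6 u7 u8 u9 u10 u11 / 512) (s2 u1 u2 u3 u4 u6 u9 / 64) = true →
    Nat.ble (s5 u1 u2 u3 u4 u5 u6 u7 u8 u9 u10 u11 / 512) (s3 u1 u2 u3 u4 u5 u8 / 64) = true →
    Nat.ble (s5 u1 u2 u3 u4 u5 u6 u7 u8 u9 u10 u11 / 512) (s4 u1 u2 u3 u4 u5 u6 u7 u8 u11 / 128) = true →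
    Nat.blt (s0 u1 u2 u3 u4 u5 u6 u7 u8 / 64 + 8) (2 * (s5 u1 u2 u3 u4 u5 u6 u7 u8 u9 u10 u11 / 512)) = true ∧ u1 = 32 := by
  decide +kernel

end Cfsg.Agent.H945.E83.Cert
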