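import Mathlib
import Cfsg.Agent.H945.E83.Cert

/-!
# Uniqueness of the values of the Brauer character of `E₈(3)` on the `2`-elements of `Sp₆(2)` (S5919)
-/

set_option autoImplicit false
set_option maxRecDepth 100000
set_option synthInstance.maxSize 4000
set_option synthInstance.maxHeartbeats 400000

namespace Cfsg.Agent.H945.E83.Cert

def s6 (u3 u4 u6 u7 : ℕ) : ℕ := 256 + 9 * u3 + 2 * u4 + 12 * u6 + 8 * u7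

theorem certU : ∀ u1 ∈ [0, 32], ∀ u2 ∈ [0, 32], ∀ u3 ∈ [0, 32], ∀ u4 ∈ [0, 32], ∀ u5 ∈ T4 u4, ∀ u6 ∈ T4 u3,
    ∀ u7 ∈ T4 u4, ∀ u8 ∈ T4 u4, ∀ u9 ∈ T4 u3,
    gd 64 (s0 u1 u2 u3 u4 u5 u6 u7 u8) = true → gd 256 (s1 u1 u2 u3 u4 u5 u6 u7 u8 u9) = true →
    gd 64 (s2 u1 u2 u3 u4 u6 u9) = true → gd 64 (s3 u1 u2 u3 u4 u5 u8) = true →
    gd 32 (s6 u3 u4 u6 u7) = true →
    ∀ u10 ∈ T8 u9 u3, ∀ u11 ∈ T8 u6 u3,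
    gd 128 (s4 u1 u2 u3 u4 u5 u6 u7 u8 u11) = true → gd 512 (s5 u1 u2 u3 u4 u5 u6 u7 u8 u9 u10 u11) = true →
    Nat.ble (s5 u1 u2 u3 u4 u5 u6 u7 u8 u9 u10 u11 / 512) (s0 u1 u2 u3 u4 u5 u6 u7 u8 / 64) = true →
    Nat.ble (s5 u1 u2 u3 u4 u5 u6 u7 u8 u9 u10 u11 / 512) (s1 u1 u2 u3 u4 u5 u6 u7 u8 u9 / 256) = true →
    Nat.ble (s5 u1 u2 u3 u4 u5 u6 u7 u8 u9 u10 u11 / 512) (s2 u1 u2 u3 u4 u6 u9 / 64) = true →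
    Nat.ble (s5 u1 u2 u3 u4 u5 u6 u7 u8 u9 u10 u11 / 512) (s3 u1 u2 u3 u4 u5 u8 / 64) = true →
    Nat.ble (s5 u1 u2 u3 u4 u5 u6 u7 u8 u9 u10 u11 / 512) (s4 u1 u2 u3 u4 u5 u6 u7 u8 u11 / 128) = true →
    Nat.ble (s5 u1 u2 u3 u4 u5 u6 u7 u8 u9 u10 u11 / 512) (s6 u3 u4 u6 u7 / 32) = true →
    [u1, u2, u3, u4, u5, u6, u7, u8, u9, u10, u11] = [32, 0, 0, 32, 12, 8, 12, 12, 72, 4, 24] := by
  decide +kernel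

end Cfsg.Agent.H945.E83.Cert
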