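import Mathlib
import Cfsg.Agent.SporRec.TwoSp6.Sp
import Cfsg.Agent.H942.Fun

/-!
# Coded elements of `Sp₆(2)` (S5919)

`R g a`: the six base `64` digits of `a` are the codes of the columns of `g`.
-/

set_option autoImplicit false

namespace Cfsg.Agent.H945.E83.Code

open Cfsg.Agent.SporRec.TwoSp6.Sp
open Cfsg.Agent.H942.Fun (look allB allB_spec)
open Cfsg.Agent.H942.Enum

/-- digit `j` -/
def col (a j : ℕ) : ℕ := (a >>> (6 * j)) % 64

/-- the matrix with columns `a0, ..., a5` applied to the vector with code `c` -/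
def ap6 (a0 a1 a2 a3 a4 a5 c : ℕ) : ℕ :=
  (c % 2 * a0) ^^^ ((c / 2 % 2 * a1) ^^^ ((c / 4 % 2 * a2) ^^^ ((c / 8 % 2 * a3) ^^^
    ((c / 16 % 2 * a4) ^^^ (c / 32 % 2 * a5)))))

def ap (a c : ℕ) : ℕ := ap6 (col a 0) (col a 1) (col a 2) (col a 3) (col a 4) (col a 5) c

/-- product of codes -/
def mulC (a b : ℕ) : ℕ :=
  ap a (col b 0) + 64 * (ap a (col b 1) + 64 * (ap a (col b 2) + 64 * (ap a (col b 3) + 64 * (ap a (col b 4) +
    64 * ap a (col b 5)))))

/-- the code `a` represents `g` -/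
def R (g : S) (a : ℕ) : Prop := ∀ j < 6, act g (enc (2 ^ j)) = enc (col a j)

theorem col_lt (a j : ℕ) : col a j < 64 := Nat.mod_lt _ (by norm_num)

theorem bit_mul_lt {b x : ℕ} (hb : b < 2) (hx : x < 64) : b * x < 64 := by
  interval_cases b <;> omega

theorem xor_lt {x y : ℕ} (hx : x < 64) (hy : y < 64) : x ^^^ y < 64 := Nat.xor_lt_two_pow (n := 6) hx hy

theorem ap_lt (a c : ℕ) : ap a c < 64 := by
  have h : ∀ x j, x % 2 * col a j < 64 := fun x j => bit_mul_lt (Nat.mod_lt _ (by norm_num)) (col_lt a j)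
  exact xor_lt (h _ _) (xor_lt (h _ _) (xor_lt (h _ _) (xor_lt (h _ _) (xor_lt (h _ _) (h _ _)))))

theorem col_eq (a j : ℕ) : col a j = a / 64 ^ j % 64 := by
  rw [col, Nat.shiftRight_eq_div_pow, pow_mul]
  norm_num

theorem col_mulC (a b : ℕ) : ∀ j < 6, col (mulC a b) j = ap a (col b j) := by
  have h0 := ap_lt a (col b 0)
  have h1 := ap_lt a (col b 1)
  have h2 := ap_lt a (col b 2)
  have h3 := ap_lt a (col b 3)
  have h4 := ap_lt a (col b 4)
  have h5 := ap_lt a (col b 5)
  intro j hj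
  rw [col_eq, mulC]
  interval_cases j <;> norm_num <;> omega

theorem mulC_lt (a b : ℕ) : mulC a b < 2 ^ 36 := by
  have h0 := ap_lt a (col b 0)
  have h1 := ap_lt a (col b 1)
  have h2 := ap_lt a (col b 2)
  have h3 := ap_lt a (col b 3)
  have h4 := ap_lt a (col b 4)
  have h5 := ap_lt a (col b 5)
  rw [mulC]
  norm_num
  omega

theorem enc_zero : enc 0 = 0 := by
  funext i
  rcases i with i | i <;> simp [enc, bitf]

theorem act_zero (g : S) : act g 0 = 0 := Matrix.mulVec_zero _

theorem split_code : ∀ c < 64, c = (c % 2 * 2 ^ 0) ^^^ ((c / 2 % 2 * 2 ^ 1) ^^^ ((c / 4 % 2 * 2 ^ 2) ^^^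
    ((c / 8 % 2 * 2 ^ 3) ^^^ ((c / 16 % 2 * 2 ^ 4) ^^^ (c / 32 % 2 * 2 ^ 5))))) := by decide +kernel

theorem act_bit {g : S} {a : ℕ} (h : R g a) (x : ℕ) {j : ℕ} (hj : j < 6) :
    act g (enc (x % 2 * 2 ^ j)) = enc (x % 2 * col a j) := by
  rcases Nat.mod_two_eq_zero_or_one x with h0 | h0
  · rw [h0, zero_mul, zero_mul, enc_zero, act_zero]
  · rw [h0, one_mul, one_mul]
    exact h j hj

/-- the action on all codes -/
theorem act_code {g : S} {a : ℕ} (h : R g a) {c : ℕ} (hc : c < 64) : act g (enc c) = enc (ap a c) := by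
  conv_lhs => rw [split_code c hc]
  rw [ap, ap6]
  simp only [enc_xor, act_add]
  rw [act_bit h _ (by norm_num), act_bit h _ (by norm_num), act_bit h _ (by norm_num), act_bit h _ (by norm_num),
    act_bit h _ (by norm_num), act_bit h _ (by norm_num)]

theorem R_mul {g h : S} {a b : ℕ} (hg : R g a) (hh : R h b) : R (g * h) (mulC a b) := by
  intro j hj
  rw [act_mul, hh j hj, act_code hg (col_lt b j), col_mulC a b j hj]

theorem enc_inj : ∀ c < 64, ∀ d < 64, enc c = enc d → c = d := by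
  have key : ∀ c < 64, ∀ d < 64, (∀ k < 6, c.testBit k = d.testBit k) → c = d := by decide +kernel
  intro c hc d hd h
  refine key c hc d hd fun k hk => ?_
  have hb : bitf c k = bitf d k := by
    by_cases h3 : k < 3
    · exact congrFun h (Sum.inl ⟨k, h3⟩)
    · have := congrFun h (Sum.inr ⟨k - 3, by omega⟩)
      have e : 3 + (k - 3) = k := by omega
      change bitf c (3 + (k - 3)) = bitf d (3 + (k - 3)) at this
      rwa [e] at this
  unfold bitf at hb
  revert hb
  cases c.testBit k <;> cases d.testBit k <;> simp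

theorem R_inj {g h : S} {a : ℕ} (hg : R g a) (hh : R h a) : g = h := by
  apply act_ext
  intro x
  obtain ⟨c, hc, rfl⟩ := exists_enc x
  rw [act_code hg hc, act_code hh hc]

theorem eq_of_cols {a b : ℕ} (ha : a < 2 ^ 36) (hb : b < 2 ^ 36) (h : ∀ j < 6, col a j = col b j) : a = b := by
  have e0 := h 0 (by norm_num)
  have e1 := h 1 (by norm_num)
  have e2 := h 2 (by norm_num)
  have e3 := h 3 (by norm_num)
  have e4 := h 4 (by norm_num)
  have e5 := h 5 (by norm_num)
  rw [col_eq, col_eq] at e0 e1 e2 e3 e4 e5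
  norm_num at e0 e1 e2 e3 e4 e5 ha hb
  omega

theorem R_uni {g : S} {a b : ℕ} (ha : R g a) (hb : R g b) (ha' : a < 2 ^ 36) (hb' : b < 2 ^ 36) : a = b :=
  eq_of_cols ha' hb' fun j hj => enc_inj _ (col_lt a j) _ (col_lt b j) (by rw [← ha j hj, ← hb j hj])

/-- the code of the identity -/
def oneC : ℕ := 34630287489

theorem R_one : R 1 oneC := by
  have h : ∀ j < 6, 2 ^ j = col oneC j := by decide +kernel
  intro j hj
  rw [act_one, h j hj]

/-- the codes of the seven transvections -/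
def genC (i : Fin 7) : ℕ :=
  st i 1 + 64 * (st i 2 + 64 * (st i 4 + 64 * (st i 8 + 64 * (st i 16 + 64 * st i 32))))

theorem R_gen (i : Fin 7) : R (tr (v i)) (genC i) := by
  have h : ∀ i : Fin 7, ∀ j < 6, st i (2 ^ j) = col (genC i) j := by decide +kernel
  intro j hj
  rw [act_enc, h i j hj]

/-- the element given by a word in the seven transvections -/
def word (w : List (Fin 7)) : S := (w.map fun i => tr (v i)).prod

def wordC (w : List (Fin 7)) : ℕ := w.foldr (fun i a => mulC (genC i) a) oneC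

theorem R_word (w : List (Fin 7)) : R (word w) (wordC w) := by
  induction w with
  | nil => exact R_one
  | cons i w ih =>
    rw [word, List.map_cons, List.prod_cons]
    exact R_mul (R_gen i) ih

theorem R_conj {g b : S} {x y z : ℕ} (hg : R g x) (hb : R b y) (h : Nat.beq (mulC x y) (mulC y z) = true) :
    R (b⁻¹ * g * b) z := by
  -- `g b = b g'` where `g'` has the code `z`
  have h1 := R_mul hg hb
  rw [Nat.eq_of_beq_eq_true h] at h1
  -- the element `b⁻¹ g b` acts as the code `z`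
  intro j hj
  have h2 : act b (enc (col z j)) = act (g * b) (enc (2 ^ j)) := by
    rw [act_code hb (col_lt z j), h1 j hj, col_mulC y z j hj]
  have h3 : enc (col z j) = act (b⁻¹ * (g * b)) (enc (2 ^ j)) := by
    rw [act_mul b⁻¹, ← h2, ← act_mul, inv_mul_cancel, act_one]
  rw [h3, mul_assoc]

end Cfsg.Agent.H945.E83.Code
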